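import Cfsg.Agent.Arith.LTE

/-!
# Elements of primitive prime order in algebras over finite fields
-/

namespace Cfsg.Agent.Arith

open Polynomial

variable {F : Type*} [Field F] [Fintype F]

theorem orderOf_card_natCast_eq_zero_iff {r : ℕ} [Fact r.Prime] :
    orderOf ((Fintype.card F : ℕ) : ZMod r) = 0 ↔ r ∣ Fintype.card F := by
  refine ⟨fun h => by_contra fun hn => ?_, orderOf_natCast_eq_zero_of_dvd⟩
  exact (orderOf_natCast_pos hn).ne' h

/-- An irreducible factor of `Φ_r` over a field with `q` elements has degree `ord_r q`. -/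
theorem natDegree_irreducible_factor_cyclotomic {r : ℕ} [Fact r.Prime]
    (hr : ¬ r ∣ Fintype.card F) {P : F[X]} (hP : Irreducible P) (hd : P ∣ cyclotomic r F) :
    P.natDegree = orderOf ((Fintype.card F : ℕ) : ZMod r) := by
  obtain ⟨f, hp, hK⟩ := FiniteField.card F (ringChar F)
  have : Fact (ringChar F).Prime := ⟨hp⟩
  have hn : (ringChar F).Coprime r := by
    refine (Nat.coprime_primes hp Fact.out).mpr fun h => hr ?_
    rw [hK, h]
    exact dvd_pow_self r f.pos.ne'
  rw [natDegree_of_dvd_cyclotomic_of_irreducible hK hn hd hP, ← orderOf_units,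
    ZMod.coe_unitOfCoprime, hK]

/-- An algebra element of prime order `r`, whose minimal polynomial has degree at most
`n = ord_r q`, has irreducible minimal polynomial of degree exactly `n`. -/
theorem irreducible_minpoly_of_primitive {A : Type*} [Ring A] [Algebra F A] {r n : ℕ}
    [Fact r.Prime] (hn : 0 < n) (hord : orderOf ((Fintype.card F : ℕ) : ZMod r) = n)
    {x : A} (hx1 : x ≠ 1) (hxr : x ^ r = 1) (hdeg : (minpoly F x).natDegree ≤ n) :
    Irreducible (minpoly F x) ∧ (minpoly F x).natDegree = n := by
  have hrp : r.Prime := Fact.out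
  have hr : ¬ r ∣ Fintype.card F := not_dvd_of_orderOf_eq hn hord
  have hint : IsIntegral F x :=
    ⟨X ^ r - 1, monic_X_pow_sub_C (1 : F) hrp.ne_zero, by simp [hxr]⟩
  have hdvd : minpoly F x ∣ cyclotomic r F * (X - 1) := by
    rw [cyclotomic_prime_mul_X_sub_one]
    exact minpoly.dvd F x (by simp [hxr])
  have hμ := minpoly.ne_zero hint
  by_cases hex : ∃ P : F[X], Irreducible P ∧ P ∣ minpoly F x ∧ P ∣ cyclotomic r F
  swap
  · exfalso
    push Not at hex
    have hco := isCoprime_of_irreducible_dvd (fun h => hμ h.1) hex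
    have h := hco.dvd_of_dvd_mul_left hdvd
    have h0 : aeval x (X - 1 : F[X]) = 0 := (minpoly.dvd_iff).mp h
    exact hx1 (sub_eq_zero.mp (by simpa using h0))
  · obtain ⟨P, hP, hPμ, hPc⟩ := hex
    have hPdeg := natDegree_irreducible_factor_cyclotomic hr hP hPc
    rw [hord] at hPdeg
    have hassoc : Associated P (minpoly F x) :=
      associated_of_dvd_of_natDegree_le hPμ hμ (by omega)
    exact ⟨hassoc.irreducible hP, le_antisymm hdeg (hPdeg ▸ natDegree_le_of_dvd hPμ hμ)⟩

/-- The commutant of an endomorphism with irreducible minimal polynomial of full degree consists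
of the polynomials in it. -/
theorem exists_aeval_eq_of_commute {K V : Type*} [Field K] [AddCommGroup V] [Module K V]
    [FiniteDimensional K V] [Nontrivial V] {f g : Module.End K V}
    (hirr : Irreducible (minpoly K f))
    (hdeg : (minpoly K f).natDegree = Module.finrank K V) (hc : Commute g f) :
    ∃ p : K[X], g = aeval f p := by
  obtain ⟨v, hv⟩ := exists_ne (0 : V)
  let φ : K[X] →ₗ[K] V := (LinearMap.applyₗ v).comp (aeval f).toLinearMap
  have hφ : ∀ p, φ p = aeval f p v := fun p => rfl
  have hinj : Function.Injective (φ.comp (degreeLT K (Module.finrank K V)).subtype) := by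
    rw [← LinearMap.ker_eq_bot, LinearMap.ker_eq_bot']
    rintro ⟨p, hp⟩ h0
    by_contra hne
    have hp0 : p ≠ 0 := fun h => hne (Subtype.ext h)
    have hlt : p.natDegree < (minpoly K f).natDegree := by
      rw [hdeg]
      exact (natDegree_lt_iff_degree_lt hp0).mpr (mem_degreeLT.mp hp)
    obtain ⟨a, b, hab⟩ := (hirr.coprime_iff_not_dvd (n := p)).mpr
      (fun h => absurd (natDegree_le_of_dvd h hp0) (by omega))
    have := LinearMap.congr_fun (congrArg (aeval f) hab) v
    simp only [map_add, map_mul, minpoly.aeval, map_one,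
      Module.End.mul_apply, Module.End.one_apply, mul_zero, LinearMap.zero_apply, zero_add] at this
    have h0' : aeval f p v = 0 := h0
    rw [h0', map_zero] at this
    exact hv this.symm
  have hsurj : Function.Surjective φ := by
    have h := (LinearMap.injective_iff_surjective_of_finrank_eq_finrank
      (by rw [(degreeLTEquiv K _).finrank_eq, Module.finrank_fin_fun])).mp hinj
    exact Function.Surjective.of_comp h
  obtain ⟨p, hp⟩ := hsurj (g v)
  refine ⟨p, LinearMap.ext fun w => ?_⟩
  obtain ⟨q, rfl⟩ := hsurj w
  have hcq : Commute g (aeval f q) := by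
    induction q using Polynomial.induction_on' with
    | add a b ha hb => simpa using ha.add_right hb
    | monomial k c =>
      rw [aeval_monomial]
      exact (Algebra.commute_algebraMap_right c g).mul_right (hc.pow_right k)
  rw [hφ] at hp ⊢
  rw [← Module.End.mul_apply, hcq.eq, Module.End.mul_apply, ← hp, ← Module.End.mul_apply,
    ← Module.End.mul_apply, ← map_mul, ← map_mul, mul_comm]

end Cfsg.Agent.Arith
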