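import Cfsg.Agent.Arith.Zsigmondy

/-!
# The `r`-part of `a ^ k - 1` and of cyclotomic values
-/

namespace Cfsg.Agent.Arith

open Polynomial

theorem padicValNat_pow_sub_one_eq_zero {r a k : ℕ} (ha : 0 < a)
    (h : ¬ orderOf (a : ZMod r) ∣ k) : padicValNat r (a ^ k - 1) = 0 :=
  padicValNat.eq_zero_of_not_dvd (fun hd => h ((dvd_pow_sub_one_iff_orderOf_dvd ha k).mp hd))

/-- LTE: for odd `r`, with `e` the order of `a` mod `r` and `e ∣ k`,
`v_r(a^k - 1) = v_r(a^e - 1) + v_r(k)`. -/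
theorem padicValNat_pow_sub_one {r a k : ℕ} [Fact r.Prime] (hr2 : r ≠ 2) (ha : 1 < a)
    (hk : k ≠ 0) (he : orderOf (a : ZMod r) ∣ k) :
    padicValNat r (a ^ k - 1) =
      padicValNat r (a ^ orderOf (a : ZMod r) - 1) + padicValNat r k := by
  have hr : r.Prime := Fact.out
  set e := orderOf (a : ZMod r) with hedef
  have hra : ¬ r ∣ a := fun hd => by
    have hz : e = 0 := orderOf_natCast_eq_zero_of_dvd hd
    rw [hz, zero_dvd_iff] at he
    exact hk he
  obtain ⟨m, rfl⟩ := he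
  have he0 : 0 < e := orderOf_natCast_pos hra
  have hm : m ≠ 0 := by rintro rfl; simp at hk
  have hxy : r ∣ a ^ e - 1 :=
    (dvd_pow_sub_one_iff_orderOf_dvd (by omega) e).mpr dvd_rfl
  have h := padicValNat.pow_sub_pow (p := r) (hr.odd_of_ne_two hr2) (x := a ^ e) (y := 1)
    (Nat.one_lt_pow he0.ne' ha) hxy (fun hh => hra (hr.dvd_of_dvd_pow hh)) hm
  rw [one_pow, ← pow_mul] at h
  rw [h, padicValNat.mul he0.ne' hm,
    padicValNat.eq_zero_of_not_dvd (not_dvd_orderOf_natCast hra), zero_add]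

/-- The `r`-part of `Φ_e(a)`, `e` the order of `a` mod `r`, is that of `a^e - 1`. -/
theorem padicValNat_cyclotomic_orderOf {r a : ℕ} [Fact r.Prime] (ha : 1 < a) (hra : ¬ r ∣ a) :
    padicValNat r ((cyclotomic (orderOf (a : ZMod r)) ℤ).eval (a : ℤ)).natAbs =
      padicValNat r (a ^ orderOf (a : ZMod r) - 1) := by
  set e := orderOf (a : ZMod r) with hedef
  have he0 : 0 < e := orderOf_natCast_pos hra
  rw [pow_sub_one_eq_prod_cyclotomic (by omega) he0,
    Finset.prod_eq_mul_prod_sdiff_singleton_of_mem (Nat.mem_divisors_self e he0.ne'),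
    padicValNat.mul (natAbs_cyclotomic_eval_pos ha e).ne'
      (Finset.prod_pos fun d _ => natAbs_cyclotomic_eval_pos ha d).ne']
  suffices h : ¬ r ∣ ∏ d ∈ e.divisors \ {e}, ((cyclotomic d ℤ).eval (a : ℤ)).natAbs by
    rw [padicValNat.eq_zero_of_not_dvd h, add_zero]
  intro h
  obtain ⟨d, hd, hrd⟩ := (Prime.dvd_finset_prod_iff (Fact.out : r.Prime).prime _).mp h
  simp only [Finset.mem_sdiff, Nat.mem_divisors, Finset.mem_singleton] at hd
  obtain ⟨-, j, hj⟩ := (prime_dvd_cyclotomic_iff d a).mp (Int.natCast_dvd.mpr hrd)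
  have h1 : e ∣ d := hj ▸ Dvd.intro _ rfl
  exact hd.2 (Nat.dvd_antisymm hd.1.1 h1)

/-- For `j ≥ 1` the prime `r` divides `Φ_{e r^j}(a)` exactly once. -/
theorem padicValNat_cyclotomic_orderOf_mul_pow {r a j : ℕ} [Fact r.Prime] (hr2 : r ≠ 2)
    (ha : 1 < a) (hra : ¬ r ∣ a) (hj : 0 < j) :
    padicValNat r ((cyclotomic (orderOf (a : ZMod r) * r ^ j) ℤ).eval (a : ℤ)).natAbs = 1 := by
  have hr : r.Prime := Fact.out
  have h := (prime_dvd_cyclotomic_iff (p := r) _ a).mpr ⟨hra, j, rfl⟩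
  set n := orderOf (a : ZMod r) * r ^ j with hndef
  have hrn : r ∣ n := dvd_mul_of_dvd_right (dvd_pow_self r hj.ne') _
  have hn : 2 < n := by
    have : 0 < n := Nat.mul_pos (orderOf_natCast_pos hra) (pow_pos hr.pos j)
    have := Nat.le_of_dvd this hrn
    have := hr.two_le
    omega
  have h1 := one_le_padicValNat_of_dvd (natAbs_cyclotomic_eval_pos ha n).ne'
    (Int.natCast_dvd.mp h)
  have h2 := not_sq_dvd_cyclotomic hn ha hrn h
  rw [← Nat.cast_pow, Int.natCast_dvd, padicValNat_dvd_iff_le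
    (natAbs_cyclotomic_eval_pos ha n).ne'] at h2
  omega

/-- The `r`-part of `∏_{i ∈ s} (a^i - 1)` when no element of `s` is divisible by `r`. -/
theorem padicValNat_prod_pow_sub_one {r a : ℕ} [Fact r.Prime] (hr2 : r ≠ 2) (ha : 1 < a)
    (s : Finset ℕ) (hs : ∀ i ∈ s, ¬ r ∣ i) :
    padicValNat r (∏ i ∈ s, (a ^ i - 1)) =
      (s.filter (fun i => orderOf (a : ZMod r) ∣ i)).card *
        padicValNat r (a ^ orderOf (a : ZMod r) - 1) := by
  induction s using Finset.induction_on with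
  | empty => simp
  | @insert i s his ih =>
    have hs' : ∀ j ∈ s, ¬ r ∣ j := fun j hj => hs j (Finset.mem_insert_of_mem hj)
    have hi := hs i (Finset.mem_insert_self i s)
    have hi0 : i ≠ 0 := by rintro rfl; exact hi (dvd_zero r)
    have hpos : ∀ j : ℕ, j ≠ 0 → a ^ j - 1 ≠ 0 := fun j hj =>
      Nat.sub_ne_zero_of_lt (Nat.one_lt_pow hj ha)
    rw [Finset.prod_insert his, padicValNat.mul (hpos i hi0) ?_, ih hs', Finset.filter_insert]
    · by_cases he : orderOf (a : ZMod r) ∣ i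
      · rw [if_pos he, Finset.card_insert_of_notMem (by simp [his]),
          padicValNat_pow_sub_one hr2 ha hi0 he, padicValNat.eq_zero_of_not_dvd hi]
        ring
      · rw [if_neg he, padicValNat_pow_sub_one_eq_zero (by omega) he, zero_add]
    · exact Finset.prod_ne_zero_iff.mpr fun j hj => hpos j (by rintro rfl; exact hs' 0 hj (dvd_zero r))

end Cfsg.Agent.Arith
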