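import Mathlib

/-!
# Sylvester's theorem on binomial coefficients

For `1 ≤ k` and `2 * k ≤ n` the binomial coefficient `n.choose k` has a prime divisor greater
than `k`.
-/

set_option autoImplicit false

namespace Cfsg.Agent.Arith.Sylvester

open Finset

/-- `p` has no proper divisor `d` with `d * d ≤ p`, `d < 729`. -/
def noDiv (p : ℕ) : Bool :=
  decide (2 ≤ p) && (List.range' 2 727).all fun d => decide (p < d * d) || decide (p % d ≠ 0)

theorem prime_of_noDiv {p : ℕ} (hb : p < 729 * 729) (h : noDiv p = true) : p.Prime := by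
  rw [noDiv, Bool.and_eq_true, decide_eq_true_eq, List.all_eq_true] at h
  obtain ⟨h2, hall⟩ := h
  refine Nat.prime_def_le_sqrt.2 ⟨h2, fun m hm hms hdvd => ?_⟩
  have hmm : m * m ≤ p := Nat.le_sqrt.1 hms
  have hm729 : m < 729 := Nat.mul_self_lt_mul_self_iff.1 (lt_of_le_of_lt hmm hb)
  have := hall m (by rw [List.mem_range'_1]; omega)
  rw [Bool.or_eq_true, decide_eq_true_eq, decide_eq_true_eq] at this
  rcases this with h1 | h1
  · omega
  · exact h1 (Nat.mod_eq_zero_of_dvd hdvd)

/-- The test on consecutive members of the chain for `k ≥ 64`. -/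
def chainOK : List ℕ → Bool
  | [] => true
  | [p] => decide (p < 729 * 729) && noDiv p
  | p :: q :: r => decide (p < 729 * 729) && noDiv p &&
      (decide (q - p ≤ 64) || decide (4 * (q - p - 1) ^ 3 < p ^ 2)) && chainOK (q :: r)

/-- The test on consecutive members of the chain for `k ≥ 14`. -/
def chainSmallOK : List ℕ → Bool
  | [] => true
  | [p] => decide (p < 729 * 729) && noDiv p
  | p :: q :: r => decide (p < 729 * 729) && noDiv p && decide (q - p ≤ 14) &&
      chainSmallOK (q :: r)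

/-- Primes whose gaps are small against `n` for `n ≥ 127`. -/
def chain : List ℕ :=
  [127, 191, 251, 313, 373, 433, 491, 547, 607, 661, 719, 773, 829, 887, 947, 1009, 1069, 1129,
   1193, 1259, 1327, 1399, 1471, 1553, 1637, 1723, 1811, 1901, 1997, 2089, 2179, 2281, 2389,
   2477, 2593, 2711, 2833, 2957, 3083, 3217, 3347, 3469, 3613, 3761, 3911, 4057, 4217, 4373,
   4523, 4691, 4861, 5039, 5209, 5399, 5591, 5783, 5981, 6173, 6379, 6581, 6803, 7027, 7253,
   7489, 7727, 7963, 8209, 8461, 8719, 8971, 9241, 9511, 9791, 10079, 10369, 10667, 10973, 11279,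
   11593, 11909, 12227, 12553, 12893, 13229, 13577, 13933, 14293, 14657, 15031, 15413, 15803,
   16193, 16573, 16981, 17393, 17807, 18233, 18661, 19087, 19531, 19979, 20443, 20903, 21379,
   21863, 22349, 22817, 23321, 23833, 24337, 24859, 25391, 25933, 26479, 27031, 27583, 28151,
   28729, 29311, 29881, 30469, 31081, 31699, 32327, 32957, 33601, 34253, 34913, 35573, 36251,
   36931, 37619, 38327, 39043, 39769, 40499, 41233, 41983, 42743, 43499, 44279, 45061, 45853,
   46649, 47459, 48281, 49117, 49957, 50789, 51647, 52517, 53401, 54293, 55171, 56081, 56999,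
   57923, 58831, 59779, 60737, 61703, 62687, 63671, 64667, 65677, 66701, 67733, 68777, 69833,
   70901, 71971, 73061, 74161, 75269, 76387, 77521, 78653, 79801, 80963, 82141, 83311, 84509,
   85717, 86939, 88169, 89417, 90677, 91943, 93199, 94483, 95789, 97103, 98429, 99767, 101119,
   102481, 103843, 105229, 106627, 108041, 109471, 110909, 112363, 113819, 115279, 116747,
   118249, 119759, 121283, 122827, 124367, 125933, 127507, 129097, 130699, 132313, 133949,
   135599, 137251, 138923, 140611, 142297, 144013, 145723, 147457, 149213, 150979, 152753,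
   154543, 156353, 158161, 160001, 161839, 163697, 165569, 167449, 169361, 171271, 173209,
   175141, 177113, 179099, 181087, 183091, 185123, 187163, 189223, 191299, 193387, 195493,
   197609, 199741, 201893, 204059, 206237, 208433, 210643, 212873, 215087, 217339, 219613,
   221891, 224197, 226511, 228847, 231197, 233557, 235927, 238331, 240743, 243167, 245621,
   248089, 250543, 253013, 255523, 258031, 260581, 263129, 265711, 268297, 270913, 273551,
   276191, 278849, 281531, 284237, 286927, 289657, 292393, 295153, 297931, 300739, 303553,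
   306389, 309251, 312121, 315013, 317923, 320851, 323803, 326773, 329761, 332767, 335771,
   338803, 341863, 344941, 348031, 351133, 354259, 357389, 360551, 363731, 366941, 370169,
   373393, 376657, 379931, 383221, 386543, 389867, 393209, 396581, 399979, 403391, 406817,
   410257, 413719, 417217, 420731, 424267, 427813, 431381, 434977, 438589, 442217, 445871,
   449543, 453239, 456949, 460673, 464419, 468191, 471959, 475777, 479599, 483443, 487313,
   491213, 495133, 499067, 503017, 506999, 511001, 514967, 519011, 523049, 527129]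

/-- Primes with gaps at most `14`. -/
def chainSmall : List ℕ :=
  [13, 23, 37, 47, 61, 73, 83, 97, 109, 113, 127, 139, 151, 163, 173, 181, 193, 199, 211, 223,
   233, 241, 251, 263, 277, 283, 293, 307, 317, 331, 337, 349, 359, 373, 383, 397, 409, 421, 433,
   443, 457, 467, 479, 491, 503, 509, 523]

theorem chain_ok : chainOK chain = true := by decide +kernel

theorem chainSmall_ok : chainSmallOK chainSmall = true := by decide +kernel

theorem exists_prime_of_chain : ∀ (l : List ℕ) (p₀ : ℕ), chainOK (p₀ :: l) = true →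
    ∀ n k : ℕ, p₀ ≤ n → n < (p₀ :: l).getLast (List.cons_ne_nil _ _) → 64 ≤ k →
      n ^ 2 ≤ 4 * k ^ 3 → ∃ p, p.Prime ∧ p ≤ n ∧ n < p + k := by
  intro l
  induction l with
  | nil =>
    intro p₀ _ n k h1 h2
    simp only [List.getLast_singleton] at h2
    omega
  | cons q r ih =>
    intro p₀ hok n k h1 h2 hk hnk
    rw [chainOK, Bool.and_eq_true, Bool.and_eq_true, Bool.and_eq_true, Bool.or_eq_true,
      decide_eq_true_eq, decide_eq_true_eq, decide_eq_true_eq] at hok
    obtain ⟨⟨⟨hb, hp⟩, hgap⟩, hrest⟩ := hok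
    by_cases hq : q ≤ n
    · refine ih q hrest n k hq ?_ hk hnk
      rwa [List.getLast_cons (List.cons_ne_nil _ _)] at h2
    refine ⟨p₀, prime_of_noDiv hb hp, h1, ?_⟩
    rcases hgap with hgap | hgap
    · omega
    by_contra hlt
    have h3 : k ≤ q - p₀ - 1 := by omega
    have h4 := Nat.mul_le_mul_left 4 (Nat.pow_le_pow_left h3 3)
    have h5 := Nat.pow_le_pow_left h1 2
    omega

theorem exists_prime_of_chainSmall : ∀ (l : List ℕ) (p₀ : ℕ), chainSmallOK (p₀ :: l) = true →
    ∀ n k : ℕ, p₀ ≤ n → n < (p₀ :: l).getLast (List.cons_ne_nil _ _) → 14 ≤ k →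
      ∃ p, p.Prime ∧ p ≤ n ∧ n < p + k := by
  intro l
  induction l with
  | nil =>
    intro p₀ _ n k h1 h2
    simp only [List.getLast_singleton] at h2
    omega
  | cons q r ih =>
    intro p₀ hok n k h1 h2 hk
    rw [chainSmallOK, Bool.and_eq_true, Bool.and_eq_true, Bool.and_eq_true,
      decide_eq_true_eq, decide_eq_true_eq] at hok
    obtain ⟨⟨⟨hb, hp⟩, hgap⟩, hrest⟩ := hok
    by_cases hq : q ≤ n
    · refine ih q hrest n k hq ?_ hk
      rwa [List.getLast_cons (List.cons_ne_nil _ _)] at h2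
    exact ⟨p₀, prime_of_noDiv hb hp, h1, by omega⟩

/-- A prime in the top interval divides the binomial coefficient. -/
theorem dvd_choose_of_mod_lt {n k p : ℕ} (hp : p.Prime) (hpk : k < p) (hpn : p ≤ n)
    (h : n % p < k) : p ∣ n.choose k := by
  have h1 : p ∣ n.descFactorial k := by
    rw [Nat.descFactorial_eq_prod_range]
    exact dvd_trans (Nat.dvd_sub_mod n)
      (Finset.dvd_prod_of_mem (fun i => n - i) (Finset.mem_range.2 h))
  rw [Nat.descFactorial_eq_factorial_mul_choose] at h1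
  exact (hp.dvd_mul.1 h1).resolve_left fun hd => by
    have := (hp.dvd_factorial).1 hd
    omega

theorem dvd_choose_of_near {n k p : ℕ} (hp : p.Prime) (hkn : 2 * k ≤ n) (hpn : p ≤ n)
    (hn : n < p + k) : k < p ∧ p ∣ n.choose k := by
  have hpk : k < p := by omega
  refine ⟨hpk, dvd_choose_of_mod_lt hp hpk hpn ?_⟩
  rw [Nat.mod_eq_sub_mod hpn, Nat.mod_eq_of_lt (by omega)]
  omega

/-- The primes up to `x`. -/
def primesUpTo (x : ℕ) : Finset ℕ := (range (x + 1)).filter Nat.Prime

theorem card_primesUpTo_le (x : ℕ) : (primesUpTo x).card ≤ x / 3 + 2 := by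
  classical
  have hsub : primesUpTo x ⊆ {2, 3} ∪ (primesUpTo x).filter (3 < ·) := by
    intro p hp
    rw [mem_union, mem_insert, mem_singleton, mem_filter]
    have hpp : p.Prime := (mem_filter.1 hp).2
    have := hpp.two_le
    by_cases h : 3 < p
    · exact Or.inr ⟨hp, h⟩
    · left; omega
  have hinj : ((primesUpTo x).filter (3 < ·)).card ≤ (Icc 1 (x / 3)).card := by
    refine card_le_card_of_injOn (· / 3) ?_ ?_
    · intro p hp
      simp only [coe_filter, primesUpTo, mem_filter, mem_range, Set.mem_ofPred_eq] at hp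
      simp only [coe_Icc, Set.mem_Icc]
      omega
    · intro p hp q hq e
      simp only [coe_filter, primesUpTo, mem_filter, mem_range, Set.mem_ofPred_eq] at hp hq
      have hp2 := hp.1.2.eq_two_or_odd
      have hq2 := hq.1.2.eq_two_or_odd
      have hp3 : p % 3 ≠ 0 := fun h => by
        have := (Nat.prime_dvd_prime_iff_eq Nat.prime_three hp.1.2).1 (Nat.dvd_of_mod_eq_zero h)
        omega
      have hq3 : q % 3 ≠ 0 := fun h => by
        have := (Nat.prime_dvd_prime_iff_eq Nat.prime_three hq.1.2).1 (Nat.dvd_of_mod_eq_zero h)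
        omega
      simp only at e
      omega
  have := (card_le_card hsub).trans (card_union_le _ _)
  rw [Nat.card_Icc] at hinj
  have h23 : ({2, 3} : Finset ℕ).card ≤ 2 := card_le_two
  omega

theorem factorization_choose_eq_primeFactors (n k : ℕ) (h : k ≤ n) :
    n.choose k = ∏ p ∈ (n.choose k).primeFactors, p ^ (n.choose k).factorization p :=
  Nat.prod_primeFactors_pow_factorization (Nat.choose_pos h).ne'

/-- `n.choose k ≤ n ^ π` when all prime divisors are at most `k`, `π = π(k)`. -/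
theorem choose_le_pow_card {n k : ℕ} (hn : 0 < n) (h : k ≤ n)
    (hs : ∀ p : ℕ, p.Prime → p ∣ n.choose k → p ≤ k) :
    n.choose k ≤ n ^ (primesUpTo k).card := by
  rw [factorization_choose_eq_primeFactors n k h]
  refine (prod_le_pow_card _ _ n fun p _ => Nat.pow_factorization_choose_le hn).trans
    (Nat.pow_le_pow_right hn (card_le_card fun p hp => ?_))
  have hpp := Nat.prime_of_mem_primeFactors hp
  exact mem_filter.2 ⟨mem_range.2 (Nat.lt_succ_of_le (hs p hpp (Nat.dvd_of_mem_primeFactors hp))),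
    hpp⟩

/-- The primes above `√n` occur at most once. -/
theorem choose_le_pow_mul {n k m : ℕ} (hn : 0 < n) (h : k ≤ n)
    (hs : ∀ p : ℕ, p.Prime → p ∣ n.choose k → Nat.sqrt n < p → p ≤ m) :
    n.choose k ≤ n ^ (primesUpTo (Nat.sqrt n)).card * 4 ^ m := by
  set C := n.choose k with hC
  rw [show C = ∏ p ∈ C.primeFactors, p ^ C.factorization p from
      factorization_choose_eq_primeFactors n k h,
    ← prod_filter_mul_prod_filter_not C.primeFactors (· ≤ Nat.sqrt n)]
  refine Nat.mul_le_mul ?_ ?_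
  · refine (prod_le_pow_card _ _ n fun p _ => Nat.pow_factorization_choose_le hn).trans
      (Nat.pow_le_pow_right hn (card_le_card fun p hp => ?_))
    rw [mem_filter] at hp
    exact mem_filter.2 ⟨mem_range.2 (Nat.lt_succ_of_le hp.2), Nat.prime_of_mem_primeFactors hp.1⟩
  · refine le_trans ?_ (primorial_le_four_pow m)
    rw [primorial]
    calc ∏ p ∈ C.primeFactors.filter (fun p => ¬ p ≤ Nat.sqrt n), p ^ C.factorization p
        ≤ ∏ p ∈ C.primeFactors.filter (fun p => ¬ p ≤ Nat.sqrt n), p := by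
          refine prod_le_prod' fun p hp => ?_
          rw [mem_filter, not_le] at hp
          have hp1 := (Nat.prime_of_mem_primeFactors hp.1).one_lt.le
          exact (Nat.pow_le_pow_right hp1 (Nat.factorization_choose_le_one
            (by rw [pow_two]; exact Nat.sqrt_lt.1 hp.2))).trans (pow_one p).le
      _ ≤ _ := by
          refine prod_le_prod_of_subset_of_one_le' ?_ fun p hp _ => (mem_filter.1 hp).2.one_lt.le
          intro p hp
          rw [mem_filter, not_le] at hp
          have hpp := Nat.prime_of_mem_primeFactors hp.1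
          exact mem_filter.2 ⟨mem_range.2 (Nat.lt_succ_of_le
            (hs p hpp (Nat.dvd_of_mem_primeFactors hp.1) hp.2)), hpp⟩

theorem pow_le_pow_mul_choose {n k : ℕ} (h : k ≤ n) : n ^ k ≤ k ^ k * n.choose k := by
  have key : ∀ i ≤ k, n ^ i * k.descFactorial i ≤ k ^ i * n.descFactorial i := by
    intro i
    induction i with
    | zero => simp
    | succ i ih =>
      intro hi
      rw [Nat.descFactorial_succ, Nat.descFactorial_succ, pow_succ, pow_succ]
      calc n ^ i * n * ((k - i) * k.descFactorial i)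
          = (n * (k - i)) * (n ^ i * k.descFactorial i) := by ring
        _ ≤ (k * (n - i)) * (k ^ i * n.descFactorial i) := by
            refine Nat.mul_le_mul ?_ (ih (by omega))
            rw [Nat.mul_sub, Nat.mul_sub, Nat.mul_comm k n]
            exact Nat.sub_le_sub_left (Nat.mul_le_mul_right i h) _
        _ = k ^ i * k * ((n - i) * n.descFactorial i) := by ring
  have := key k le_rfl
  rw [Nat.descFactorial_self, Nat.descFactorial_eq_factorial_mul_choose] at this
  refine Nat.le_of_mul_le_mul_right (c := k.factorial) ?_ k.factorial_pos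
  calc n ^ k * k.factorial ≤ k ^ k * (k.factorial * n.choose k) := this
    _ = k ^ k * n.choose k * k.factorial := by ring

theorem four_pow_mul_three_pow_le {k : ℕ} (hk : 0 < k) : ∀ d ≤ k,
    4 ^ k * 3 ^ d ≤ (2 * k + d).choose k * 2 ^ d * (2 * k) := by
  intro d
  induction d with
  | zero =>
    intro _
    have := Nat.four_pow_le_two_mul_self_mul_centralBinom k hk
    simp only [pow_zero, mul_one, add_zero]
    calc 4 ^ k ≤ 2 * k * k.centralBinom := this
      _ = (2 * k).choose k * (2 * k) := by rw [Nat.centralBinom_eq_two_mul_choose]; ring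
  | succ d ih =>
    intro hd
    have h1 := Nat.choose_mul_succ_eq (2 * k + d) k
    have h2 : 3 * (2 * k + d + 1 - k) ≤ 2 * (2 * k + d + 1) := by omega
    refine Nat.le_of_mul_le_mul_right (c := 2 * k + d + 1) ?_ (by omega)
    calc 4 ^ k * 3 ^ (d + 1) * (2 * k + d + 1) = 3 * (2 * k + d + 1) * (4 ^ k * 3 ^ d) := by ring
      _ ≤ 3 * (2 * k + d + 1) * ((2 * k + d).choose k * 2 ^ d * (2 * k)) :=
          Nat.mul_le_mul_left _ (ih (by omega))
      _ = 3 * ((2 * k + d).choose k * (2 * k + d + 1)) * (2 ^ d * (2 * k)) := by ring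
      _ = 3 * (2 * k + d + 1 - k) * ((2 * k + d + 1).choose k * (2 ^ d * (2 * k))) := by
          rw [h1]; ring
      _ ≤ 2 * (2 * k + d + 1) * ((2 * k + d + 1).choose k * (2 ^ d * (2 * k))) :=
          Nat.mul_le_mul_right _ h2
      _ = (2 * k + (d + 1)).choose k * 2 ^ (d + 1) * (2 * k) * (2 * k + d + 1) := by
          rw [← add_assoc]; ring

theorem log_bound : ∀ L : ℕ, 13 ≤ L → (L + 5) ^ 4 * 2 ≤ 27 * 2 ^ L ∧ 48 * L + 240 ≤ 2 ^ L := by
  intro L hL
  induction L, hL using Nat.le_induction with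
  | base => norm_num
  | succ L hL ih =>
    rw [pow_succ 2 L]
    refine ⟨?_, by omega⟩
    have : (L + 1 + 5) ^ 4 ≤ 2 * (L + 5) ^ 4 := by
      calc (L + 1 + 5) ^ 4 = ((L + 5) + 1) ^ 4 := by ring
        _ ≤ 2 * (L + 5) ^ 4 := by
            obtain ⟨M, hM⟩ : ∃ M, L + 5 = 18 + M := ⟨L - 13, by omega⟩
            rw [hM]; nlinarith [sq_nonneg M, pow_nonneg (Nat.zero_le M) 3, pow_nonneg (Nat.zero_le M) 4]
    omega

theorem no_smooth_large {n k : ℕ} (hk : 4096 ≤ k) (hkn : 2 * k ≤ n) (hsq : n ^ 2 ≤ 4 * k ^ 3)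
    (hs : ∀ p : ℕ, p.Prime → p ∣ n.choose k → p ≤ k) : False := by
  have hn : 0 < n := by omega
  set L := Nat.log 2 k + 1 with hL
  have hkL : k < 2 ^ L := Nat.lt_pow_succ_log_self (by norm_num) k
  have hLk : 2 ^ L ≤ 2 * k := by
    rw [hL, pow_succ, mul_comm]
    exact Nat.mul_le_mul_left 2 (Nat.pow_log_le_self 2 (by omega))
  have hL13 : 13 ≤ L := by
    have : 12 ≤ Nat.log 2 k := Nat.le_log_of_pow_le (by norm_num) (by omega)
    omega
  have hT : (L + 5) ^ 4 ≤ 27 * k := by have := (log_bound L hL13).1; omega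
  have hT2 : 24 * (L + 5) ≤ k := by
    have := (log_bound L hL13).2
    omega
  set s := Nat.sqrt n with hsdef
  have hss : s ^ 2 ≤ n := by rw [pow_two]; exact Nat.sqrt_le n
  set π := (primesUpTo s).card with hπ
  have hπs : 3 * π ≤ s + 6 := by have := card_primesUpTo_le s; omega
  have hcomp : ∀ {a : ℕ}, ((L + 5) * s) ^ 4 ≤ (a * k) ^ 4 → 12 * ((L + 5) * π) ≤ (4 * a + 1) * k := by
    intro a h
    have h1 : (L + 5) * s ≤ a * k := (Nat.pow_le_pow_iff_left (by norm_num)).1 h
    have h2 := Nat.mul_le_mul_left (L + 5) hπs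
    nlinarith
  by_cases h8 : n < 8 * k
  · -- the exponent is small against `k`
    have hTs : ((L + 5) * s) ^ 4 ≤ (1 * k) ^ 4 := by
      rw [mul_pow, one_mul]
      have h2 : s ^ 4 ≤ (8 * k) ^ 2 := by
        rw [show 4 = 2 * 2 from rfl, pow_mul]; exact Nat.pow_le_pow_left (by omega) 2
      calc (L + 5) ^ 4 * s ^ 4 ≤ (27 * k) * (8 * k) ^ 2 := Nat.mul_le_mul hT h2
        _ = 1728 * k ^ 3 := by ring
        _ ≤ k * k ^ 3 := Nat.mul_le_mul_right _ (by omega)
        _ = k ^ 4 := by ring
    have hexp : 12 * ((L + 5) * π) ≤ 5 * k := hcomp hTs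
    have hnπ : n ^ π ≤ 2 ^ ((L + 3) * π) := by
      rw [pow_mul]
      refine Nat.pow_le_pow_left ?_ π
      rw [pow_add]; omega
    have h2k : 2 * k ≤ 2 ^ (L + 1) := by rw [pow_succ]; omega
    by_cases h3 : n < 3 * k
    · obtain ⟨d, rfl⟩ : ∃ d, n = 2 * k + d := ⟨n - 2 * k, by omega⟩
      have hd : d ≤ k := by omega
      have hU : (2 * k + d).choose k ≤ (2 * k + d) ^ π * 4 ^ ((2 * k + d) / 3) := by
        refine choose_le_pow_mul hn (by omega) fun p hp hpd hps => ?_
        by_contra hlt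
        have hpk := hs p hp hpd
        have h0 := Nat.factorization_choose_of_lt_three_mul (n := 2 * k + d) (k := k) (p := p)
          (by omega) hpk (by omega) (by omega)
        exact (hp.factorization_pos_of_dvd (Nat.choose_pos (by omega)).ne' hpd).ne' h0
      have h1 := Nat.pow_le_pow_left ((four_pow_mul_three_pow_le (by omega) d hd).trans
        (Nat.mul_le_mul_right _ (Nat.mul_le_mul_right _ hU))) 3
      set X := ((2 * k + d) ^ π * (2 * k)) ^ 3 with hX
      have h2 : (4 ^ ((2 * k + d) / 3)) ^ 3 ≤ 4 ^ (2 * k + d) := by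
        rw [← pow_mul]; exact Nat.pow_le_pow_right (by norm_num) (by omega)
      have h4 : 4 ^ k * 27 ^ d ≤ X * 32 ^ d := by
        refine Nat.le_of_mul_le_mul_left (c := 16 ^ k) ?_ (by positivity)
        calc 16 ^ k * (4 ^ k * 27 ^ d) = (4 ^ k * 3 ^ d) ^ 3 := by
              rw [mul_pow, ← pow_mul, ← pow_mul, mul_comm k 3, mul_comm d 3, pow_mul, pow_mul]
              rw [show (4 : ℕ) ^ 3 = 16 * 4 by norm_num, mul_pow]
              norm_num [mul_assoc]
          _ ≤ ((2 * k + d) ^ π * 4 ^ ((2 * k + d) / 3) * 2 ^ d * (2 * k)) ^ 3 := h1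
          _ = X * (4 ^ ((2 * k + d) / 3)) ^ 3 * (2 ^ d) ^ 3 := by rw [hX]; ring
          _ ≤ X * 4 ^ (2 * k + d) * (2 ^ d) ^ 3 := by gcongr
          _ = 16 ^ k * (X * 32 ^ d) := by
              have e : ∀ a b : ℕ,
                  X * a ^ (2 * k + d) * (b ^ d) ^ 3 = (a ^ 2) ^ k * (X * (a * b ^ 3) ^ d) := by
                intro a b; ring
              exact (e 4 2).trans (by norm_num)
      have h5 : 108 ^ k ≤ 32 ^ k * X := by
        refine Nat.le_of_mul_le_mul_right (c := 32 ^ d) ?_ (by positivity)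
        calc 108 ^ k * 32 ^ d = 4 ^ k * (27 ^ (k - d) * 27 ^ d) * 32 ^ d := by
              rw [← pow_add, Nat.sub_add_cancel hd, ← mul_pow]; norm_num
          _ ≤ 4 ^ k * (32 ^ (k - d) * 27 ^ d) * 32 ^ d := by gcongr; norm_num
          _ = (32 ^ (k - d) * 32 ^ d) * (4 ^ k * 27 ^ d) := by ring
          _ ≤ (32 ^ (k - d) * 32 ^ d) * (X * 32 ^ d) := Nat.mul_le_mul_left _ h4
          _ = 32 ^ k * X * 32 ^ d := by rw [← pow_add, Nat.sub_add_cancel hd]; ring
      have h6 : X ^ 2 ≤ 8 ^ k := by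
        rw [hX, ← pow_mul, show (8 : ℕ) ^ k = 2 ^ (3 * k) by rw [pow_mul]; norm_num]
        calc ((2 * k + d) ^ π * (2 * k)) ^ (3 * 2)
            ≤ (2 ^ ((L + 3) * π) * 2 ^ (L + 1)) ^ (3 * 2) := by gcongr
          _ = 2 ^ (((L + 3) * π + (L + 1)) * 6) := by rw [← pow_add, ← pow_mul]
          _ ≤ _ := Nat.pow_le_pow_right (by norm_num) (by nlinarith)
      have h7 : 11664 ^ k ≤ 8192 ^ k :=
        calc 11664 ^ k = (108 ^ k) ^ 2 := by rw [← pow_mul, mul_comm, pow_mul]; norm_num
          _ ≤ (32 ^ k * X) ^ 2 := Nat.pow_le_pow_left h5 2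
          _ ≤ (32 ^ k) ^ 2 * 8 ^ k := by rw [mul_pow]; exact Nat.mul_le_mul_left _ h6
          _ = 8192 ^ k := by rw [← pow_mul, mul_comm k 2, pow_mul, ← mul_pow]; norm_num
      exact absurd h7 (not_le.2 (Nat.pow_lt_pow_left (by norm_num) (by omega)))
    · have hU : n.choose k ≤ n ^ π * 4 ^ k :=
        choose_le_pow_mul hn (by omega) fun p hp hpd _ => hs p hp hpd
      have h1 : 6 ^ k ≤ (3 * k).choose k * (2 * k) := by
        refine Nat.le_of_mul_le_mul_right (c := 2 ^ k) ?_ (by positivity)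
        calc 6 ^ k * 2 ^ k = 4 ^ k * 3 ^ k := by rw [← mul_pow, ← mul_pow]; norm_num
          _ ≤ (2 * k + k).choose k * 2 ^ k * (2 * k) :=
              four_pow_mul_three_pow_le (by omega) k le_rfl
          _ = (3 * k).choose k * (2 * k) * 2 ^ k := by
              rw [show 2 * k + k = 3 * k by omega]; ring
      have h2 : 6 ^ k ≤ n ^ π * (2 * k) * 4 ^ k :=
        calc 6 ^ k ≤ n.choose k * (2 * k) :=
              h1.trans (Nat.mul_le_mul_right _ (Nat.choose_le_choose k (by omega)))
          _ ≤ n ^ π * 4 ^ k * (2 * k) := Nat.mul_le_mul_right _ hU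
          _ = n ^ π * (2 * k) * 4 ^ k := by ring
      have h6 : (n ^ π * (2 * k)) ^ 2 ≤ 2 ^ k :=
        calc (n ^ π * (2 * k)) ^ 2 ≤ (2 ^ ((L + 3) * π) * 2 ^ (L + 1)) ^ 2 := by gcongr
          _ = 2 ^ (((L + 3) * π + (L + 1)) * 2) := by rw [← pow_add, ← pow_mul]
          _ ≤ _ := Nat.pow_le_pow_right (by norm_num) (by nlinarith)
      have h7 : 36 ^ k ≤ 32 ^ k :=
        calc 36 ^ k = (6 ^ k) ^ 2 := by rw [← pow_mul, mul_comm, pow_mul]; norm_num
          _ ≤ (n ^ π * (2 * k) * 4 ^ k) ^ 2 := Nat.pow_le_pow_left h2 2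
          _ ≤ 2 ^ k * (4 ^ k) ^ 2 := by rw [mul_pow]; exact Nat.mul_le_mul_right _ h6
          _ = 32 ^ k := by rw [← pow_mul, mul_comm k 2, pow_mul, ← mul_pow]; norm_num
      exact absurd h7 (not_le.2 (Nat.pow_lt_pow_left (by norm_num) (by omega)))
  have hU : n.choose k ≤ n ^ π * 4 ^ k :=
    choose_le_pow_mul hn (by omega) fun p hp hpd _ => hs p hp hpd
  have hmain : n ^ k ≤ (4 * k) ^ k * n ^ π := by
    calc n ^ k ≤ k ^ k * n.choose k := pow_le_pow_mul_choose (by omega)
      _ ≤ k ^ k * (n ^ π * 4 ^ k) := Nat.mul_le_mul_left _ hU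
      _ = (4 * k) ^ k * n ^ π := by rw [mul_pow]; ring
  by_cases h32 : n < 32 * k
  · have hTs : ((L + 5) * s) ^ 4 ≤ (2 * k) ^ 4 := by
      rw [mul_pow]
      have h2 : s ^ 4 ≤ (32 * k) ^ 2 := by
        rw [show 4 = 2 * 2 from rfl, pow_mul]; exact Nat.pow_le_pow_left (by omega) 2
      calc (L + 5) ^ 4 * s ^ 4 ≤ (27 * k) * (32 * k) ^ 2 := Nat.mul_le_mul hT h2
        _ = 27648 * k ^ 3 := by ring
        _ ≤ 16 * k * k ^ 3 := Nat.mul_le_mul_right _ (by omega)
        _ = (2 * k) ^ 4 := by ring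
    have hexp : 12 * ((L + 5) * π) ≤ 9 * k := hcomp hTs
    have h2 : 2 ^ k ≤ n ^ π := by
      refine Nat.le_of_mul_le_mul_left (c := (4 * k) ^ k) ?_ (by positivity)
      calc (4 * k) ^ k * 2 ^ k = (8 * k) ^ k := by rw [← mul_pow]; ring
        _ ≤ n ^ k := Nat.pow_le_pow_left (by omega) k
        _ ≤ _ := hmain
    have hπ0 : π ≠ 0 := fun e => by
      rw [e, pow_zero] at h2
      have := Nat.one_lt_two_pow (show k ≠ 0 by omega)
      omega
    have h3 : n ^ π < 2 ^ ((L + 5) * π) := by
      rw [pow_mul]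
      refine Nat.pow_lt_pow_left ?_ hπ0
      rw [pow_add]; omega
    have h4 : 2 ^ ((L + 5) * π) ≤ 2 ^ k := Nat.pow_le_pow_right (by norm_num) (by omega)
    omega
  · have hTs : ((L + 5) * s) ^ 4 ≤ (4 * k) ^ 4 := by
      rw [mul_pow]
      have h2 : s ^ 4 ≤ 4 * k ^ 3 := le_trans (by
        rw [show 4 = 2 * 2 from rfl, pow_mul]; exact Nat.pow_le_pow_left hss 2) hsq
      calc (L + 5) ^ 4 * s ^ 4 ≤ (27 * k) * (4 * k ^ 3) := Nat.mul_le_mul hT h2
        _ = 108 * k ^ 4 := by ring
        _ ≤ 256 * k ^ 4 := Nat.mul_le_mul_right _ (by norm_num)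
        _ = (4 * k) ^ 4 := by ring
    have hexp : 12 * ((L + 5) * π) ≤ 17 * k := hcomp hTs
    have hπk : π ≤ k := by nlinarith
    set f := Nat.log 2 n with hf
    have hfn : 2 ^ f ≤ n := Nat.pow_log_le_self 2 hn.ne'
    have hnf : n < 2 ^ (f + 1) := Nat.lt_pow_succ_log_self (by norm_num) n
    have hfL : L + 4 ≤ f := Nat.le_log_of_pow_le (by norm_num) (by rw [pow_add]; omega)
    obtain ⟨j, hj⟩ := Nat.exists_eq_add_of_le hfL
    have h1 : 2 ^ (f * k) < 2 ^ ((L + 2) * k + (f + 1) * π) := by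
      calc 2 ^ (f * k) ≤ n ^ k := by rw [pow_mul]; exact Nat.pow_le_pow_left hfn k
        _ ≤ (4 * k) ^ k * n ^ π := hmain
        _ ≤ (4 * k) ^ k * (2 ^ (f + 1)) ^ π :=
            Nat.mul_le_mul_left _ (Nat.pow_le_pow_left hnf.le π)
        _ < (2 ^ (L + 2)) ^ k * (2 ^ (f + 1)) ^ π := by
            refine Nat.mul_lt_mul_of_pos_right (Nat.pow_lt_pow_left ?_ (by omega)) (by positivity)
            rw [pow_add]; omega
        _ = _ := by rw [← pow_mul, ← pow_mul, ← pow_add]
    have h2 := (Nat.pow_lt_pow_iff_right (by norm_num)).1 h1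
    rw [hj] at h2
    have h3 : j * π ≤ j * k := Nat.mul_le_mul_left j hπk
    nlinarith

theorem sq_le_of_smooth {n k : ℕ} (hk : 64 ≤ k) (hkn : 2 * k ≤ n)
    (hs : ∀ p : ℕ, p.Prime → p ∣ n.choose k → p ≤ k) : n ^ 2 ≤ 4 * k ^ 3 := by
  by_contra hlt
  push Not at hlt
  have hn : 0 < n := by omega
  have h1 : n ^ k ≤ k ^ k * n ^ (k / 3 + 2) :=
    (pow_le_pow_mul_choose (by omega)).trans (Nat.mul_le_mul_left _
      ((choose_le_pow_card hn (by omega) hs).trans
        (Nat.pow_le_pow_right hn (card_primesUpTo_le k))))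
  have h2 : n ^ (2 * k - 6) ≤ k ^ (3 * k) := by
    refine Nat.le_of_mul_le_mul_right (c := n ^ (k + 6)) ?_ (by positivity)
    calc n ^ (2 * k - 6) * n ^ (k + 6) = (n ^ k) ^ 3 := by
          rw [← pow_add, ← pow_mul]; congr 1; omega
      _ ≤ (k ^ k * n ^ (k / 3 + 2)) ^ 3 := Nat.pow_le_pow_left h1 3
      _ = k ^ (3 * k) * n ^ ((k / 3 + 2) * 3) := by rw [mul_pow, ← pow_mul, ← pow_mul, mul_comm 3 k]
      _ ≤ k ^ (3 * k) * n ^ (k + 6) :=
          Nat.mul_le_mul_left _ (Nat.pow_le_pow_right hn (by omega))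
  have h3 : (4 * k ^ 3) ^ (k - 3) < n ^ (2 * k - 6) := by
    rw [show 2 * k - 6 = 2 * (k - 3) by omega, pow_mul]
    exact Nat.pow_lt_pow_left hlt (by omega)
  set L := Nat.log 2 k + 1 with hL
  have hkL : k < 2 ^ L := Nat.lt_pow_succ_log_self (by norm_num) k
  have hLk : 2 ^ L ≤ 2 * k := by
    rw [hL, pow_succ, mul_comm]
    exact Nat.mul_le_mul_left 2 (Nat.pow_log_le_self 2 (by omega))
  have hL7 : 7 ≤ L := by
    have : 6 ≤ Nat.log 2 k := Nat.le_log_of_pow_le (by norm_num) (by omega)
    omega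
  have h9 : ∀ L : ℕ, 7 ≤ L → 9 * L + 6 ≤ 2 ^ L := by
    intro L hL
    induction L, hL using Nat.le_induction with
    | base => norm_num
    | succ L hL ih => rw [pow_succ]; omega
  have h4 : k ^ (3 * k) ≤ (4 * k ^ 3) ^ (k - 3) := by
    have h5 : k ^ 9 ≤ 4 ^ (k - 3) := by
      calc k ^ 9 ≤ (2 ^ L) ^ 9 := Nat.pow_le_pow_left hkL.le 9
        _ = 2 ^ (L * 9) := (pow_mul _ _ _).symm
        _ ≤ 2 ^ (2 * (k - 3)) := Nat.pow_le_pow_right (by norm_num) (by have := h9 L hL7; omega)
        _ = _ := by rw [pow_mul]; norm_num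
    calc k ^ (3 * k) = k ^ 9 * k ^ (3 * (k - 3)) := by rw [← pow_add]; congr 1; omega
      _ ≤ 4 ^ (k - 3) * k ^ (3 * (k - 3)) := Nat.mul_le_mul_right _ h5
      _ = _ := by rw [mul_pow, ← pow_mul]
  omega

/-- The primes below `64`. -/
def primesSmall : List ℕ :=
  [2, 3, 5, 7, 11, 13, 17, 19, 23, 29, 31, 37, 41, 43, 47, 53, 59, 61]

theorem card_primesUpTo_small : ∀ k < 64,
    (primesUpTo k).card ≤ (primesSmall.filter (fun p => decide (p ≤ k))).length := by
  intro k hk
  rw [← List.toFinset_card_of_nodup]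
  · refine card_le_card fun p hp => ?_
    rw [primesUpTo, mem_filter, mem_range] at hp
    rw [List.mem_toFinset, List.mem_filter, decide_eq_true_eq]
    refine ⟨?_, by omega⟩
    obtain ⟨hp1, hp2⟩ := hp
    have : p < 64 := by omega
    interval_cases p <;> first | (simp [primesSmall]; done) | (norm_num at hp2)
  · exact (show primesSmall.Nodup by decide).filter _

/-- The exponent left over from the primes up to `k`. -/
def gapExp (k : ℕ) : ℕ := k - (primesSmall.filter (fun p => decide (p ≤ k))).length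

theorem gapExp_small : ∀ k < 14, 2 ≤ k → k ^ k < 128 ^ gapExp k := by decide +kernel

theorem gapExp_mid : ∀ k < 64, 14 ≤ k → k ^ k < 520 ^ gapExp k := by decide +kernel

theorem lt_of_smooth_small {n k N : ℕ} (hk : k < 64) (hkn : 2 * k ≤ n) (hk0 : 0 < k)
    (hN : k ^ k < N ^ gapExp k) (hs : ∀ p : ℕ, p.Prime → p ∣ n.choose k → p ≤ k) : n < N := by
  by_contra hlt
  push Not at hlt
  have hn : 0 < n := by omega
  set c := (primesSmall.filter (fun p => decide (p ≤ k))).length
  have h1 : n ^ k ≤ k ^ k * n ^ c :=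
    (pow_le_pow_mul_choose (by omega)).trans (Nat.mul_le_mul_left _
      ((choose_le_pow_card hn (by omega) hs).trans
        (Nat.pow_le_pow_right hn (card_primesUpTo_small k hk))))
  rcases Nat.lt_or_ge k c with hc | hc
  · rw [gapExp, Nat.sub_eq_zero_of_le hc.le, pow_zero] at hN
    have := Nat.pow_pos hk0 (n := k)
    omega
  · have h2 : n ^ gapExp k * n ^ c = n ^ k := by
      rw [← pow_add, gapExp, Nat.sub_add_cancel hc]
    have h3 : n ^ gapExp k ≤ k ^ k :=
      Nat.le_of_mul_le_mul_right (h2.le.trans h1) (by positivity)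
    exact absurd (hN.trans_le (Nat.pow_le_pow_left hlt _)) (not_lt.2 h3)

/-- The primes below `128`. -/
def primesTable : List ℕ :=
  [2, 3, 5, 7, 11, 13, 17, 19, 23, 29, 31, 37, 41, 43, 47, 53, 59, 61, 67, 71, 73, 79, 83, 89,
   97, 101, 103, 107, 109, 113, 127]

theorem primesTable_prime : ∀ p ∈ primesTable, p.Prime := by
  intro p hp
  simp only [primesTable, List.mem_cons, List.not_mem_nil, or_false] at hp
  rcases hp with rfl | rfl | rfl | rfl | rfl | rfl | rfl | rfl | rfl | rfl | rfl | rfl | rfl |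
    rfl | rfl | rfl | rfl | rfl | rfl | rfl | rfl | rfl | rfl | rfl | rfl | rfl | rfl | rfl |
    rfl | rfl | rfl <;> norm_num

/-- The test for small `k` and `n`. -/
def tableOK : Bool :=
  (List.range' 1 13).all fun k => (List.range 128).all fun n => decide (n < 2 * k) ||
    primesTable.any fun p => decide (k < p) && decide (p ≤ n) && decide (n % p < k)

theorem tableOK_true : tableOK = true := by decide +kernel

theorem table {k n : ℕ} (hk : 1 ≤ k) (hk14 : k < 14) (hn : n < 128) (hkn : 2 * k ≤ n) :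
    ∃ p ∈ primesTable, k < p ∧ p ≤ n ∧ n % p < k := by
  have h := tableOK_true
  rw [tableOK, List.all_eq_true] at h
  have h1 := h k (by rw [List.mem_range'_1]; omega)
  rw [List.all_eq_true] at h1
  have h2 := h1 n (List.mem_range.2 hn)
  rw [Bool.or_eq_true, decide_eq_true_eq, List.any_eq_true] at h2
  rcases h2 with h2 | ⟨p, hp, h2⟩
  · omega
  · rw [Bool.and_eq_true, Bool.and_eq_true, decide_eq_true_eq, decide_eq_true_eq,
      decide_eq_true_eq] at h2
    exact ⟨p, hp, h2.1.1, h2.1.2, h2.2⟩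

/-- **Sylvester's theorem**: `n.choose k` has a prime divisor larger than `k`. -/
theorem exists_prime_gt_dvd_choose {n k : ℕ} (hk : 1 ≤ k) (hkn : 2 * k ≤ n) :
    ∃ p, p.Prime ∧ k < p ∧ p ∣ n.choose k := by
  rcases Nat.eq_or_lt_of_le hk with rfl | hk2
  · obtain ⟨p, hp, hd⟩ := Nat.exists_prime_and_dvd (show n ≠ 1 by omega)
    exact ⟨p, hp, hp.one_lt, by rwa [Nat.choose_one_right]⟩
  by_contra hne
  push Not at hne
  have hs : ∀ p : ℕ, p.Prime → p ∣ n.choose k → p ≤ k := fun p hp hd => by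
    by_contra h
    exact hne p hp (by omega) hd
  have hcontra : ∀ p : ℕ, p.Prime → p ≤ n → n < p + k → False := fun p hp h1 h2 => by
    obtain ⟨h3, h4⟩ := dvd_choose_of_near hp hkn h1 h2
    exact hne p hp h3 h4
  rcases Nat.lt_or_ge k 14 with hk14 | hk14
  · have hn := lt_of_smooth_small (by omega) hkn (by omega) (gapExp_small k hk14 hk2) hs
    obtain ⟨p, hp, h1, h2, h3⟩ := table hk hk14 hn hkn
    exact hne p (primesTable_prime p hp) h1
      (dvd_choose_of_mod_lt (primesTable_prime p hp) h1 h2 h3)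
  rcases Nat.lt_or_ge k 64 with hk64 | hk64
  · have hn := lt_of_smooth_small hk64 hkn (by omega) (gapExp_mid k hk64 hk14) hs
    obtain ⟨p, hp, h1, h2⟩ := exists_prime_of_chainSmall _ _ chainSmall_ok n k (by omega)
      (Nat.lt_of_lt_of_le hn (by decide +kernel)) hk14
    exact hcontra p hp h1 h2
  have hsq := sq_le_of_smooth hk64 hkn hs
  rcases Nat.lt_or_ge n 524288 with hn | hn
  · obtain ⟨p, hp, h1, h2⟩ := exists_prime_of_chain _ _ chain_ok n k (by omega)
      (Nat.lt_of_lt_of_le hn (by decide +kernel)) hk64 hsq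
    exact hcontra p hp h1 h2
  refine no_smooth_large ?_ hkn hsq hs
  by_contra hlt
  have h1 := Nat.pow_le_pow_left (show k ≤ 4095 by omega) 3
  have h2 := Nat.pow_le_pow_left hn 2
  norm_num at h1 h2
  omega

end Cfsg.Agent.Arith.Sylvester
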